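import Cfsg.Agent.Lib.Comp.Net
import Cfsg.Agent.S0144
import Mathlib.GroupTheory.Sylow
import Mathlib.GroupTheory.Nilpotent

/-!
# Order types: numbers of solutions of `x ^ n = 1` in small permutation groups
-/

set_option autoImplicit false

namespace Cfsg.Lib.OT
open Cfsg.Lib.Comp

/-- number of solutions of `x ^ n = 1` -/
noncomputable def sols (G : Type*) [Monoid G] (n : ℕ) : ℕ := Nat.card {x : G // x ^ n = 1}

/-- the divisors of `84` -/
def dv : List ℕ := [1, 2, 3, 4, 6, 7, 12, 14, 21, 28, 42, 84]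

/-- `G` has exponent dividing `84` and solution numbers `v` -/
def Ty (G : Type*) [Monoid G] (v : List ℕ) : Prop := (∀ x : G, x ^ 84 = 1) ∧ dv.map (sols G) = v

theorem sols_prod (G H : Type*) [Monoid G] [Monoid H] (n : ℕ) : sols (G × H) n = sols G n * sols H n := by
  rw [sols, sols, sols, ← Nat.card_prod]
  exact Nat.card_congr ((Equiv.subtypeEquivRight fun x => Prod.ext_iff).trans
    (Equiv.subtypeProdEquivProd (p := fun x : G => x ^ n = 1) (q := fun x : H => x ^ n = 1)))

theorem Ty.prod {G H : Type*} [Monoid G] [Monoid H] {v w : List ℕ} (h : Ty G v) (k : Ty H w) :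
    Ty (G × H) (List.zipWith (· * ·) v w) :=
  ⟨fun x => Prod.ext (h.1 x.1) (k.1 x.2), by rw [← h.2, ← k.2, List.zipWith_map, List.zipWith_self]; simp [sols_prod]⟩

theorem Ty.sols_gcd {G : Type*} [Group G] {v : List ℕ} (h : Ty G v) (n : ℕ) : sols G n = sols G (n.gcd 84) :=
  Nat.card_congr (Equiv.subtypeEquivRight fun x => by simp [pow_gcd_eq_one, h.1])

theorem Ty.sols_eq {G H : Type*} [Group G] [Group H] {v : List ℕ} (h : Ty G v) (k : Ty H v) (n : ℕ) : sols G n = sols H n := by
  rw [h.sols_gcd, k.sols_gcd]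
  refine List.map_inj_left.1 (h.2.trans k.2.symm) _ ?_
  have : ∀ d ∈ Nat.divisors 84, d ∈ dv := by decide
  exact this _ (Nat.mem_divisors.2 ⟨Nat.gcd_dvd_right _ _, by norm_num⟩)

theorem sols_eq_sum (G : Type*) [Group G] [Finite G] {n : ℕ} (hn : n ≠ 0) :
    sols G n = ∑ d ∈ n.divisors, Nat.card {x : G // orderOf x = d} := by
  classical
  have := Fintype.ofFinite G
  simp only [sols, Nat.card_eq_fintype_card, Fintype.card_subtype]
  convert (sum_card_orderOf_eq_card_pow_eq_one (G := G) hn).symm using 2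

theorem card_orderOf_eq {G H : Type*} [Group G] [Group H] [Finite G] [Finite H] (h : ∀ n, sols G n = sols H n) (n : ℕ) :
    Nat.card {x : G // orderOf x = n} = Nat.card {x : H // orderOf x = n} := by
  induction n using Nat.strong_induction_on with
  | _ n ih =>
    rcases eq_or_ne n 0 with rfl | hn
    · have : IsEmpty {x : G // orderOf x = 0} := ⟨fun x => (orderOf_pos x.1).ne' x.2⟩
      have : IsEmpty {x : H // orderOf x = 0} := ⟨fun x => (orderOf_pos x.1).ne' x.2⟩
      rw [Nat.card_of_isEmpty, Nat.card_of_isEmpty]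
    have := h n
    rw [sols_eq_sum G hn, sols_eq_sum H hn, ← Nat.cons_self_properDivisors hn, Finset.sum_cons, Finset.sum_cons,
      Finset.sum_congr rfl fun d hd => ih d (Nat.mem_properDivisors.1 hd).2] at this
    exact Nat.add_right_cancel this

theorem isSolvable_of_sols {G : Type*} [Group G] [Finite G] {p q r a b c : ℕ} (hp : p.Prime) (hq : q.Prime) (hr : r.Prime)
    (hc : Nat.card G = p ^ a * (q ^ b * r ^ c)) (hs : sols G (p ^ a) = p ^ a) : Group.IsSolvable G := by
  have := Fact.mk hp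
  obtain ⟨P, hP⟩ := Sylow.exists_subgroup_card_pow_prime p (hc ▸ dvd_mul_right _ _ : p ^ a ∣ Nat.card G)
  have h1 : (P : Set G) = {x | x ^ p ^ a = 1} := Set.eq_of_subset_of_ncard_le
    (fun x hx => orderOf_dvd_iff_pow_eq_one.1 (hP ▸ P.orderOf_dvd_natCard hx)) (hs.trans hP.symm).le
  have : P.Normal := ⟨fun x hx g => h1.ge (by rw [Set.mem_ofPred_eq, conj_pow, show x ^ _ = 1 from h1.le hx]; simp)⟩
  have := (IsPGroup.of_card hP).isNilpotent
  have := Agent.S0144.result (G := G ⧸ P) q r b c hq hr (Nat.eq_of_mul_eq_mul_left (pow_pos hp.pos a)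
    (by rw [← hc, ← hP, mul_comm, ← Subgroup.card_eq_card_quotient_mul_card_subgroup]))
  exact Group.isSolvable_of_ker_le_range P.subtype (QuotientGroup.mk' P) (by simp)

/-- maps of sixteen points -/
abbrev E16 := Function.End (Fin 16)

instance instFiniteE16 : Finite E16 := inferInstanceAs (Finite (Fin 16 → Fin 16))

def ap (x i : ℕ) : ℕ := Nat.mod (Nat.div x (Nat.pow 16 i)) 16
noncomputable def cmp (x y : ℕ) : ℕ :=
  Nat.rec (motive := fun _ => ℕ) 0 (fun i s => Nat.add s (Nat.mul (ap x (ap y i)) (Nat.pow 16 i))) 16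
def dec (x : ℕ) : E16 := fun i => ⟨ap x i, Nat.mod_lt _ (by norm_num)⟩
def code (f : E16) : ℕ := finFunctionFinEquiv f
def idc : ℕ := 0xfedcba9876543210

theorem dec_code (f : E16) : dec (code f) = f :=
  funext fun i => Fin.ext (congrArg Fin.val (congrFun (finFunctionFinEquiv.symm_apply_apply f) i))

theorem code_inj : Function.Injective code := Function.LeftInverse.injective dec_code

theorem cmp_eq (x y : ℕ) : cmp x y = code (dec x * dec y) := by
  refine Eq.trans ?_ ((finFunctionFinEquiv_apply (dec x * dec y)).trans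
    (Fin.sum_univ_eq_sum_range (fun i => ap x (ap y i) * 16 ^ i) 16)).symm
  simp only [Finset.sum_range_succ]
  rfl

theorem cmp_code (x : ℕ) (f : E16) : cmp x (code f) = code (dec x * f) := by rw [cmp_eq, dec_code]

theorem code_one : code 1 = idc := by decide +kernel

noncomputable def forceL {α : Type} (l : List ℕ) : (List ℕ → α) → α :=
  List.rec (motive := fun _ => (List ℕ → α) → α) (fun k => k []) (fun x _ ih k => force x fun v => ih fun t => k (v :: t)) l

theorem forceL_eq {α : Type} (l : List ℕ) (k : List ℕ → α) : forceL l k = k l := by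
  induction l generalizing k with
  | nil => rfl
  | cons x t ih => exact ih _

noncomputable def rep (g n : ℕ) : List ℕ → List ℕ :=
  Nat.rec (motive := fun _ => List ℕ → List ℕ) (fun _ => []) (fun _ ih l => forceL l fun l => l ++ ih (l.map (cmp g))) n

noncomputable def en (P : List (ℕ × ℕ)) : List ℕ := List.rec (motive := fun _ => List ℕ) [idc] (fun a _ ih => rep a.1 a.2 ih) P

theorem en_spec (U : Submonoid E16) {P : List (ℕ × ℕ)} (h : ∀ a ∈ P, dec a.1 ∈ U) : ∀ x ∈ en P, ∃ f ∈ U, code f = x := by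
  induction P with
  | nil => exact fun x hx => ⟨1, U.one_mem, code_one.trans (List.mem_singleton.1 hx).symm⟩
  | cons a t ih =>
    have h1 := ih fun b hb => h b (List.mem_cons_of_mem _ hb)
    change ∀ x ∈ rep a.1 a.2 (en t), _
    generalize en t = l, a.2 = n at h1 ⊢
    induction n generalizing l with
    | zero => exact fun _ hx => nomatch hx
    | succ n ih2 =>
      refine fun x hx => (List.mem_append.1 ((congrArg (x ∈ ·) (forceL_eq l fun l => l ++ rep a.1 n (l.map (cmp a.1)))).mp hx)).elim (h1 x) (ih2 _ (fun y hy => ?_) x)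
      obtain ⟨z, hz, rfl⟩ := List.mem_map.1 hy
      obtain ⟨f, hf, rfl⟩ := h1 z hz
      exact ⟨_, U.mul_mem (h a List.mem_cons_self) hf, (cmp_code _ _).symm⟩

noncomputable def memB (x : ℕ) (l : List ℕ) : Bool :=
  force x fun x => List.rec (motive := fun _ => Bool) false (fun y _ ih => cnd (Nat.beq x y) true ih) l

theorem memB_iff {x : ℕ} {l : List ℕ} : memB x l = true ↔ x ∈ l := by
  induction l with
  | nil => simp [memB, force_eq]
  | cons y t ih =>
    change cnd (Nat.beq x y) true (memB x t) = true ↔ _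
    simp only [cnd_eq, List.mem_cons, ← ih, Nat.beq_eq]
    split_ifs with e <;> simp [e]

noncomputable def ndB (l : List ℕ) : Bool := List.rec (motive := fun _ => Bool) true (fun y t ih => cnd (memB y t) false ih) l

theorem nodup_of_ndB {l : List ℕ} (h : ndB l = true) : l.Nodup := by
  induction l with
  | nil => exact List.nodup_nil
  | cons y t ih =>
    change cnd (memB y t) false (ndB t) = true at h
    simp only [cnd_eq, memB_iff] at h
    split_ifs at h with e
    exact List.nodup_cons.2 ⟨e, ih h⟩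

noncomputable def ordA (x n : ℕ) : ℕ → ℕ → ℕ :=
  Nat.rec (motive := fun _ => ℕ → ℕ → ℕ) (fun _ _ => 0)
    (fun _ ih y k => force y fun y => cnd (Nat.beq y idc) k (ih (cmp x y) (Nat.succ k))) n

noncomputable def ord (x : ℕ) : ℕ := ordA x 84 x 1

theorem ordA_succ (x n y k : ℕ) : ordA x (n + 1) y k = if y = idc then k else ordA x n (cmp x y) (k + 1) :=
  (cnd_eq (Nat.beq y idc) k (ordA x n (cmp x y) (k + 1))).trans (if_congr Nat.beq_eq.to_iff rfl rfl)

open Classical in
theorem ordA_spec (f : E16) (n k : ℕ) (hk : 0 < k) (h : ∀ m < k, 0 < m → f ^ m ≠ 1)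
    (h0 : ordA (code f) n (code (f ^ k)) k ≠ 0) : orderOf f = ordA (code f) n (code (f ^ k)) k := by
  induction n generalizing k with
  | zero => exact (h0 rfl).elim
  | succ n ih =>
    have e := ordA_succ (code f) n (code (f ^ k)) k
    rw [← code_one, cmp_code, dec_code, ← pow_succ', if_congr code_inj.eq_iff rfl rfl] at e
    rw [e] at h0 ⊢
    split_ifs at h0 ⊢ with a
    · exact (orderOf_eq_iff hk).2 ⟨a, h⟩
    · exact ih _ k.succ_pos (fun m hm => (Nat.lt_succ_iff_lt_or_eq.1 hm).elim (h m) fun e _ => e ▸ a) h0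

theorem ord_spec {f : E16} (h : ord (code f) ∣ 84) : orderOf f = ord (code f) := by
  simpa [ord] using ordA_spec f 84 1 one_pos (by omega) (by rw [pow_one]; exact ne_zero_of_dvd_ne_zero (by norm_num) h)

noncomputable def chk (P : List (ℕ × ℕ)) (v : List ℕ) : Bool :=
  forceL (en P) fun l => cnd (memB idc l) (cnd (allL P fun a => allL l fun x => memB (cmp a.1 x) l) (cnd (ndB l)
    (forceL (l.map ord) fun o => cnd (allL o fun k => decide (k ∣ 84)) (dv.map (fun d => o.countP (· ∣ d)) == v) false)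
    false) false) false

/-- the monoid enumerated by `P` -/
def mon (P : List (ℕ × ℕ)) : Submonoid E16 where
  carrier := {f | ∀ g, code g ∈ en P → code (f * g) ∈ en P}
  one_mem' g hg := by rwa [one_mul]
  mul_mem' hf hg k hk := by rw [mul_assoc]; exact hf _ (hg k hk)

theorem chk_spec {P : List (ℕ × ℕ)} {v : List ℕ} (h : chk P v = true) :
    (∀ f, f ∈ mon P ↔ code f ∈ en P) ∧ Ty (mon P) v := by
  simp only [chk, forceL_eq, cnd_tt, memB_iff, allL_iff, decide_eq_true_eq, beq_iff_eq] at h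
  obtain ⟨h1, h2, h3, h4, h5⟩ := h
  have h6 := en_spec (mon P) fun a ha g hg => cmp_code _ g ▸ h2 a ha _ hg
  have h7 : ∀ f, f ∈ mon P ↔ code f ∈ en P := fun f => ⟨fun hf => by simpa using hf 1 (code_one ▸ h1),
    fun hf => let ⟨g, hg, e⟩ := h6 _ hf; code_inj e ▸ hg⟩
  have h8 : ∀ (f : mon P) n, f ^ n = 1 ↔ ord (code f) ∣ n := fun f n => by
    rw [← ord_spec (h4 _ (List.mem_map_of_mem ((h7 f).1 f.2))), orderOf_dvd_iff_pow_eq_one, Subtype.ext_iff]; rfl
  refine ⟨h7, fun f => (h8 f _).2 (h4 _ (List.mem_map_of_mem ((h7 f).1 f.2))), h5 ▸ List.map_congr_left fun d _ => ?_⟩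
  rw [List.countP_map, List.countP_eq_length_filter, ← List.toFinset_card_of_nodup ((nodup_of_ndB h3).filter _),
    ← Nat.subtype_card _ fun _ => Iff.rfl]
  refine Nat.card_congr (.ofBijective (fun f => ⟨code f.1, by simp [(h7 _).1 f.1.2, (h8 _ _).1 f.2]⟩)
    ⟨fun f g e => Subtype.ext (Subtype.ext (code_inj (congrArg Subtype.val e))), fun ⟨x, hx⟩ => ?_⟩)
  simp only [List.mem_toFinset, List.mem_filter, Function.comp_apply, decide_eq_true_eq] at hx
  obtain ⟨f, hf, rfl⟩ := h6 x hx.1
  exact ⟨⟨⟨f, hf⟩, (h8 _ _).2 hx.2⟩, rfl⟩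

/-- `v` is the type of a solvable (`b = true`) or non-solvable (`b = false`) group -/
def Re (b : Bool) (v : List ℕ) : Prop :=
  ∃ (G : Type) (_ : Group G) (_ : Finite G), (Group.IsSolvable G ↔ b = true) ∧ Ty G v

theorem Re.mul {b c : Bool} {v w : List ℕ} (h : Re b v) (k : Re c w) : Re (b && c) (List.zipWith (· * ·) v w) := by
  obtain ⟨G, _, _, h1, h2⟩ := h
  obtain ⟨H, _, _, k1, k2⟩ := k
  refine ⟨G × H, inferInstance, inferInstance, ?_, h2.prod k2⟩
  rw [Bool.and_eq_true, ← h1, ← k1]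
  exact ⟨fun _ => ⟨Group.isSolvable_of_surjective (f := MonoidHom.fst G H) Prod.fst_surjective,
    Group.isSolvable_of_surjective (f := MonoidHom.snd G H) Prod.snd_surjective⟩, fun ⟨_, _⟩ => inferInstance⟩

theorem re_true (P : List (ℕ × ℕ)) {v : List ℕ} (h : chk P v = true) (p q r a b c i : ℕ) (hp : p.Prime) (hq : q.Prime)
    (hr : r.Prime) (h1 : v[11]? = some (p ^ a * (q ^ b * r ^ c))) (h2 : dv[i]? = some ((p ^ a).gcd 84)) (h3 : v[i]? = some (p ^ a)) :
    Re true v := by
  obtain ⟨-, h⟩ := chk_spec h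
  let : Group (mon P) := groupOfIsUnit fun x => .of_pow_eq_one (h.1 x) (by norm_num)
  refine ⟨mon P, inferInstance, inferInstance, iff_of_true (isSolvable_of_sols hp hq hr (a := a) (b := b) (c := c) ?_ ?_) rfl, h⟩
  · rw [← h.2] at h1
    exact (Nat.card_congr (Equiv.subtypeUnivEquiv h.1)).symm.trans (Option.some.inj h1)
  · rw [← h.2, List.getElem?_map, h2] at h3
    exact (h.sols_gcd _).trans (Option.some.inj h3)

theorem re_false (P : List (ℕ × ℕ)) {v : List ℕ} (h : chk P v = true) (h1 : v[11]? ≠ some 1)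
    (h2 : ∀ a ∈ P, ∃ x y, memB x (en P) = true ∧ memB y (en P) = true ∧ cmp a.1 (cmp y x) = cmp x y) : Re false v := by
  obtain ⟨h0, h⟩ := chk_spec h
  let : Group (mon P) := groupOfIsUnit fun x => .of_pow_eq_one (h.1 x) (by norm_num)
  refine ⟨mon P, inferInstance, inferInstance, iff_of_false (fun hs => ?_) (by simp), h⟩
  have : Nontrivial (mon P) := Finite.one_lt_card_iff_nontrivial.1 (lt_of_le_of_ne Nat.card_pos fun e => h1
    (h.2 ▸ congrArg some ((Nat.card_congr (Equiv.subtypeUnivEquiv h.1)).trans e.symm)))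
  have h3 := en_spec ⊤ (P := P) fun _ _ => trivial
  suffices h4 : ∀ a ∈ P, dec a.1 ∈ (commutator (mon P)).toSubmonoid.map (mon P).subtype from
    (Group.IsSolvable.commutator_lt_top_of_nontrivial (mon P)).not_ge fun f _ => by
      obtain ⟨_, ⟨g, hg, rfl⟩, e⟩ := en_spec _ h4 _ ((h0 f).1 f.2)
      exact Subtype.ext (code_inj e) ▸ hg
  intro a ha
  obtain ⟨x, y, hx, hy, e⟩ := h2 a ha
  obtain ⟨f, -, rfl⟩ := h3 x (memB_iff.1 hx)
  obtain ⟨g, -, rfl⟩ := h3 y (memB_iff.1 hy)
  simp only [cmp_code, dec_code, code_inj.eq_iff] at e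
  let f' : mon P := ⟨f, (h0 f).2 (memB_iff.1 hx)⟩
  let g' : mon P := ⟨g, (h0 g).2 (memB_iff.1 hy)⟩
  refine ⟨f' * g' * (g' * f')⁻¹, by
    simpa [mul_assoc, commutatorElement_def, commutator] using
      Subgroup.commutator_mem_commutator (Subgroup.mem_top f') (Subgroup.mem_top g'), ?_⟩
  change f * g * _ = _
  rw [← e, mul_assoc]
  exact (congrArg _ (congrArg Subtype.val (mul_inv_cancel (g' * f')))).trans (mul_one _)

end Cfsg.Lib.OT
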