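import Cfsg.Agent.Lib.OT.Basic

/-!
# A solvable and a non-solvable group with the same order type
-/

set_option autoImplicit false

namespace Cfsg.Lib.OT

theorem re0 : Re true [1, 8, 57, 8, 120, 49, 120, 56, 105, 56, 168, 168] :=
  re_true [(0xfedcba9865742130, 3), (0xfedcba9836410572, 7), (0xfedcba9832107654, 2), (0xfedcba9823016745, 2), (0xfedcba9801234567, 2)]
    (by decide +kernel) 2 3 7 3 1 1 3 Nat.prime_two Nat.prime_three Nat.prime_seven rfl rfl rfl

theorem re1 : Re true [1, 44, 15, 64, 156, 7, 288, 56, 21, 112, 168, 336] :=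
  re_true [(0xfedcba9805274163, 2), (0xfedcba9810765432, 2), (0xfc9daeb836147250, 6), (0xf8edcba932107654, 14)]
    (by decide +kernel) 7 2 3 1 4 1 5 Nat.prime_seven Nat.prime_two Nat.prime_three rfl rfl rfl

theorem re2 : Re true [1, 20, 1, 64, 20, 7, 64, 56, 7, 112, 56, 112] :=
  re_true [(0xf9abcde805274163, 2), (0xfedcba9810765432, 2), (0xf9abcde836147250, 2), (0xf8edcba932107654, 14)]
    (by decide +kernel) 7 2 3 1 4 0 5 Nat.prime_seven Nat.prime_two Nat.prime_three rfl rfl rfl

theorem re3 : Re true [1, 22, 3, 64, 54, 7, 96, 70, 21, 112, 126, 168] :=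
  re_true [(0xfe89abcd73654120, 2), (0xfe89abcd73456210, 2), (0xfe7dcba984365021, 42)]
    (by decide +kernel) 7 2 3 1 3 1 5 Nat.prime_seven Nat.prime_two Nat.prime_three rfl rfl rfl

theorem re4 : Re true [1, 44, 1, 64, 44, 7, 64, 56, 7, 112, 56, 112] :=
  re_true [(0xfedcba9805274163, 2), (0xfedcba9810765432, 2), (0xf9abcde836147250, 2), (0xf8edcba932107654, 14)]
    (by decide +kernel) 7 2 3 1 4 0 5 Nat.prime_seven Nat.prime_two Nat.prime_three rfl rfl rfl

theorem re5 : Re true [1, 20, 15, 64, 132, 7, 288, 56, 21, 112, 168, 336] :=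
  re_true [(0xfc9daeb805274163, 2), (0xfedcba9810765432, 2), (0xfc9daeb836147250, 6), (0xf8edcba932107654, 14)]
    (by decide +kernel) 7 2 3 1 4 1 5 Nat.prime_seven Nat.prime_two Nat.prime_three rfl rfl rfl

theorem re6 : Re true [1, 50, 15, 50, 162, 49, 162, 98, 147, 98, 294, 294] :=
  re_true [(0xfe89abcd74152630, 6), (0xfe7dcba981065432, 7), (0xfea987dcb5432106, 7)]
    (by decide +kernel) 7 2 3 2 1 1 5 Nat.prime_seven Nat.prime_two Nat.prime_three rfl rfl rfl

theorem re7 : Re true [1, 1, 15, 1, 15, 7, 15, 7, 21, 7, 21, 21] :=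
  re_true [(0xfedcba9875316420, 3), (0xfedcba9875432106, 7)]
    (by decide +kernel) 7 2 3 1 0 1 5 Nat.prime_seven Nat.prime_two Nat.prime_three rfl rfl rfl

theorem re8 : Re true [1, 50, 1, 50, 50, 49, 50, 98, 49, 98, 98, 98] :=
  re_true [(0xfe89abcd71234560, 2), (0xfe7dcba981065432, 7), (0xfea987dcb5432106, 7)]
    (by decide +kernel) 7 2 3 2 1 0 5 Nat.prime_seven Nat.prime_two Nat.prime_three rfl rfl rfl

theorem re9 : Re true [1, 1, 1, 1, 1, 7, 1, 7, 7, 7, 7, 7] :=
  re_true [(0xfedcba9870654321, 7)]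
    (by decide +kernel) 7 2 3 1 0 0 5 Nat.prime_seven Nat.prime_two Nat.prime_three rfl rfl rfl

theorem re10 : Re true [1, 8, 3, 8, 24, 1, 24, 8, 3, 8, 24, 24] :=
  re_true [(0xfedcba9876453210, 2), (0xfedcba9876542310, 2), (0xfedcba9687543201, 6)]
    (by decide +kernel) 7 2 3 0 3 1 0 Nat.prime_seven Nat.prime_two Nat.prime_three rfl rfl rfl

theorem reL : Re false [1, 22, 57, 64, 78, 49, 120, 70, 105, 112, 126, 168] :=
  re_false [(0xfedcba9872350146, 7), (0xfedcba9872406315, 3), (0xfedcba9873520461, 4), (0xfedcba9873546201, 2)] (by decide +kernel) (by decide) (by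
    simp only [List.forall_mem_cons, List.not_mem_nil, IsEmpty.forall_iff, implies_true, and_true]
    exact ⟨⟨0xfedcba9874510362, 0xfedcba9872350146, by decide +kernel⟩,
      ⟨0xfedcba9873610452, 0xfedcba9871450236, by decide +kernel⟩,
      ⟨0xfedcba9874231605, 0xfedcba9873205146, by decide +kernel⟩,
      ⟨0xfedcba9873250416, 0xfedcba9871540263, by decide +kernel⟩⟩)

theorem exists_same_type : ∃ v, Re true v ∧ Re false v :=
  ⟨_, ((((((((((((((re0.mul re0).mul re0).mul re1).mul re1).mul re1).mul re3).mul re3).mul re3).mul re5).mul re5).mul re5).mul re8).mul re8).mul re9),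
    by convert (((((((((((((((((reL.mul reL).mul reL).mul re2).mul re2).mul re2).mul re4).mul re4).mul re4).mul re6).mul re6).mul re7).mul re7).mul re7).mul re7).mul re10).mul re10).mul re10) using 1 <;> decide +kernel⟩

end Cfsg.Lib.OT
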